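import Groth.Agent.ArNode.General
import Mathlib.RingTheory.MvPowerSeries.Rename
import Mathlib.RingTheory.MvPowerSeries.Inverse
import Mathlib.RingTheory.MvPowerSeries.Equiv
import Mathlib.RingTheory.PowerSeries.NoZeroDivisors
import Mathlib.RingTheory.PowerSeries.Inverse
import Mathlib.RingTheory.SimpleModule.Basic

/-! Automorphisms of `k[[t, e]]/(te)`. -/

universe u

noncomputable section

namespace Groth.Agent.ArNode

open MvPowerSeries

variable {k : Type u} [Field k]

local notation "A" => ArLef.NodeAlg k (0 : k)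
local notation "t" => (ArLef.NodeAlg.t (0 : k) : ArLef.NodeAlg k (0 : k))
local notation "e" => (ArLef.NodeAlg.e (0 : k) : ArLef.NodeAlg k (0 : k))

theorem field_t_mul_e : t * e = 0 := by
  rw [← map_mul, Ideal.Quotient.eq_zero_iff_mem]
  exact Ideal.mem_span_singleton.2 (by rw [map_zero, sub_zero])

theorem field_dvd_e {r : A} (h : e ∣ t * r) : e ∣ r := by
  obtain ⟨c, hc⟩ := h
  obtain ⟨F, rfl⟩ := Ideal.Quotient.mk_surjective r
  obtain ⟨G, rfl⟩ := Ideal.Quotient.mk_surjective c
  rw [← map_mul, ← map_mul, Ideal.Quotient.eq, Ideal.mem_span_singleton', map_zero, sub_zero] at hc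
  obtain ⟨H, hH⟩ := hc
  obtain ⟨F', rfl⟩ : X (1 : Fin 2) ∣ F := by
    let e0 : Unit ↪ Fin 2 := Function.Embedding.punit 0
    have h1 := congrArg (killCompl e0) hH
    have hX1 : killCompl (R := k) e0 (X 1) = 0 :=
      killCompl_X_eq_zero (by rintro ⟨_, h⟩; simp [e0, Function.Embedding.punit] at h)
    have hX0 : killCompl (R := k) e0 (X 0) = X () :=
      killCompl_X ()
    simp only [map_mul, map_sub, hX1, hX0, mul_zero, zero_mul, sub_zero] at h1
    have hF0 : killCompl e0 F = 0 :=
      (mul_eq_zero.1 h1.symm).resolve_left fun h => PowerSeries.X_ne_zero h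
    refine X_dvd_iff.2 fun d hd => ?_
    have := congrArg (MvPowerSeries.coeff (Finsupp.single () (d 0))) hF0
    rw [coeff_killCompl, Finsupp.embDomain_single] at this
    have e' : Finsupp.single (e0 ()) (d 0) = d := by
      ext l; fin_cases l <;> simp [e0, Function.Embedding.punit, hd]
    rw [e'] at this
    simpa using this
  exact ⟨Ideal.Quotient.mk _ F', by rw [← map_mul]⟩

theorem field_expansion (r : A) : ∃ c g h, r = algebraMap k A c + t * g + e * h := by
  classical
  obtain ⟨F, rfl⟩ := Ideal.Quotient.mk_surjective r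
  let H : MvPowerSeries (Fin 2) k := fun d => if d 0 = 0 ∧ d 1 ≠ 0 then coeff d F else 0
  obtain ⟨h, hh⟩ : X (1 : Fin 2) ∣ H := X_dvd_iff.2 fun d hd => by
    show H d = 0
    simp [H, hd]
  obtain ⟨g, hg⟩ : X (0 : Fin 2) ∣ F - C (constantCoeff F) - H := X_dvd_iff.2 fun d hd => by
    rw [map_sub, map_sub, coeff_C, show coeff d H = H d from rfl]
    rcases eq_or_ne (d 1) 0 with h1 | h1
    · have : d = 0 := by ext l; fin_cases l <;> simp [hd, h1]
      subst this
      simp [H]
    · have : d ≠ 0 := fun h => h1 (by simp [h])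
      simp [H, hd, h1, this]
  refine ⟨constantCoeff F, Ideal.Quotient.mk _ g, Ideal.Quotient.mk _ h, ?_⟩
  rw [show algebraMap k A (constantCoeff F) = Ideal.Quotient.mk _ (C (constantCoeff F)) from rfl,
    ← map_mul, ← map_mul, ← map_add, ← map_add]
  congr 1
  linear_combination hg + hh

theorem field_node_lengths (σ : A ≃ₐ[k] A) (α β : Aˣ) (ht : σ t = (α : A) * t) (he : σ e = (β : A) * e) :
    Module.length A (A ⧸ ArLef.fixIdeal σ) + 1 =
      Module.length A (A ⧸ (ArLef.fixIdeal σ ⊔ Ideal.span ({t} : Set A))) +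
        Module.length A (A ⧸ (ArLef.fixIdeal σ ⊔ Ideal.span ({e} : Set A))) := by
  let χ : A →+* k := Ideal.Quotient.lift _ MvPowerSeries.constantCoeff (fun x hx => by
    obtain ⟨c, rfl⟩ := Ideal.mem_span_singleton'.1 hx
    simp)
  haveI : Nontrivial A := χ.domain_nontrivial
  haveI : IsLocalRing A := .of_surjective' _ Ideal.Quotient.mk_surjective
  haveI : IsNoetherianRing A :=
    isNoetherianRing_of_surjective (MvPowerSeries (Fin 2) k) _ (Ideal.Quotient.mk _) Ideal.Quotient.mk_surjective
  have hker : RingHom.ker χ = Ideal.span {t, e} := by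
    refine le_antisymm (fun r hr => ?_) (Ideal.span_le.2 ?_)
    · obtain ⟨c, g, h, rfl⟩ := field_expansion r
      have hχt : χ t = 0 := MvPowerSeries.constantCoeff_X _
      have hχe : χ e = 0 := MvPowerSeries.constantCoeff_X _
      have hc : χ (algebraMap k A c) = c := by
        show χ (Ideal.Quotient.mk _ (MvPowerSeries.C c)) = c
        exact (Ideal.Quotient.lift_mk _ _ _).trans (MvPowerSeries.constantCoeff_C c)
      rw [RingHom.mem_ker, map_add, map_add, map_mul, map_mul, hc, hχt, hχe, zero_mul, zero_mul, add_zero,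
        add_zero] at hr
      subst hr
      exact Ideal.mem_span_pair.2 ⟨g, h, by simp; ring⟩
    · rintro x (rfl | rfl) <;> exact MvPowerSeries.constantCoeff_X _
  have hm : (Ideal.span {t, e}).IsMaximal := by
    rw [← hker]
    exact RingHom.ker_isMaximal_of_surjective χ fun c => ⟨algebraMap k A c, by show χ (Ideal.Quotient.mk _ (MvPowerSeries.C c)) = c; exact (Ideal.Quotient.lift_mk _ _ _).trans (MvPowerSeries.constantCoeff_C c)⟩
  have h1 : Module.length A (A ⧸ Ideal.span {t, e}) = 1 := by
    rw [Module.length_eq_one_iff, isSimpleModule_iff_isCoatom]; exact hm.out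
  set a := (α : A) - 1 with ha
  set b := (β : A) - 1 with hb
  have hI : ArLef.fixIdeal σ = Ideal.span {t * a, e * b} := by
    refine le_antisymm (fix_le (algebraMap k A) (?_ : t ∈ _) (?_ : e ∈ _) field_expansion (σ : A →+* A) _ (fun c => ?_) ?_ ?_)
      (Ideal.span_le.2 ?_)
    · rw [← IsLocalRing.eq_maximalIdeal hm]; exact Ideal.subset_span (Or.inl rfl)
    · rw [← IsLocalRing.eq_maximalIdeal hm]; exact Ideal.subset_span (Or.inr rfl)
    · show σ _ - _ ∈ _
      rw [σ.commutes, sub_self]; exact zero_mem _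
    · show σ t - t ∈ _
      rw [ht, show (α : A) * t - t = t * a by rw [ha]; ring]; exact Ideal.subset_span (Or.inl rfl)
    · show σ e - e ∈ _
      rw [he, show (β : A) * e - e = e * b by rw [hb]; ring]; exact Ideal.subset_span (Or.inr rfl)
    · rintro z (rfl | rfl) <;> rw [SetLike.mem_coe]
      · rw [show t * a = σ t - t by rw [ht, ha]; ring]; exact fix_mem σ t
      · rw [show e * b = σ e - e by rw [he, hb]; ring]; exact fix_mem σ e
  have hJ : ArLef.fixIdeal σ ⊔ Ideal.span ({e} : Set A) = Ideal.span {t * a, e} := by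
    rw [hI, Ideal.span_insert, Ideal.span_insert, sup_assoc]
    congr 1
    exact sup_eq_right.2 (Ideal.span_singleton_le_span_singleton.2 (dvd_mul_right e b))
  have hJt : Ideal.span {t * a, e} ⊔ Ideal.span ({t} : Set A) = Ideal.span {t, e} := by
    refine le_antisymm (sup_le (Ideal.span_le.2 ?_) (Ideal.span_mono (by simp))) (Ideal.span_le.2 ?_)
    · rintro z (rfl | rfl) <;> rw [SetLike.mem_coe]
      · exact Ideal.mul_mem_right _ _ (Ideal.subset_span (Or.inl rfl))
      · exact Ideal.subset_span (Or.inr rfl)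
    · rintro z (rfl | rfl) <;> rw [SetLike.mem_coe]
      · exact Submodule.mem_sup_right (Ideal.mem_span_singleton_self _)
      · exact Submodule.mem_sup_left (Ideal.subset_span (Or.inr rfl))
  have hcol : (ArLef.fixIdeal σ).colon {t} = (Ideal.span {t * a, e}).colon {t} := by
    ext r
    rw [Submodule.mem_colon_singleton, Submodule.mem_colon_singleton, smul_eq_mul, ← hJ]
    refine ⟨fun h => Submodule.mem_sup_left h, fun h => ?_⟩
    rw [hJ, Ideal.mem_span_pair] at h
    obtain ⟨x, y, hxy⟩ := h
    obtain ⟨s, hs⟩ := field_dvd_e (r := r - x * a) ⟨y, by linear_combination -hxy⟩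
    rw [hI, show r * t = x * (t * a) + 0 * (e * b) by linear_combination t * hs + s * (field_t_mul_e (k := k))]
    exact Ideal.mem_span_pair.2 ⟨x, 0, rfl⟩
  rw [len_colon (ArLef.fixIdeal σ) t, hJ, len_colon (Ideal.span {t * a, e}) t, hJt, h1, hcol]
  ring

end Groth.Agent.ArNode
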