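import Groth.Agent.ArNode.Node

/-! Fixed-point ideals of automorphisms of `B[[t, e]]/(te - π)`. -/

universe u

noncomputable section

namespace Groth.Agent.ArNode

variable {B : Type u} [CommRing B] [IsDomain B] [IsDiscreteValuationRing B] {π : B}

local notation "N" => ArLef.NodeAlg B π
local notation "t" => (ArLef.NodeAlg.t π : ArLef.NodeAlg B π)
local notation "e" => (ArLef.NodeAlg.e π : ArLef.NodeAlg B π)

theorem node_fix_le (hπ : Irreducible π) (σ : N →+* N) (J : Ideal N)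
    (hC : ∀ c, σ (algebraMap B N c) - algebraMap B N c ∈ J) (ht : σ t - t ∈ J) (he : σ e - e ∈ J) :
    ArLef.fixIdeal (σ : N → N) ≤ J := by
  haveI := isLocalRing hπ
  exact fix_le (algebraMap B N) (not_isUnit_t hπ) (not_isUnit_e hπ) exists_expansion σ J hC ht he

theorem branch_cases (hπ : Irreducible π) (σ : N ≃+* N)
    (hσ : Associated (σ (algebraMap B N π)) (algebraMap B N π)) :
    (∃ α β : Nˣ, σ t = (α : N) * t ∧ σ e = (β : N) * e) ∨ (∃ α β : Nˣ, σ t = (α : N) * e ∧ σ e = (β : N) * t) := by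
  haveI := isDomain hπ
  rw [← t_mul_e, map_mul] at hσ
  have pt := prime_t hπ
  have pσt : Prime (σ t) := (MulEquiv.prime_iff σ.toMulEquiv).2 pt
  have pσe : Prime (σ e) := (MulEquiv.prime_iff σ.toMulEquiv).2 (prime_e hπ)
  have hd : t ∣ σ t * σ e := (dvd_mul_right t e).trans hσ.symm.dvd
  rcases pt.dvd_mul.1 hd with h | h
  · have ha : Associated t (σ t) := pt.irreducible.associated_of_dvd pσt.irreducible h
    have hb : Associated e (σ e) := hσ.symm.of_mul_left ha pt.ne_zero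
    obtain ⟨α, hα⟩ := ha; obtain ⟨β, hβ⟩ := hb
    exact Or.inl ⟨α, β, by rw [← hα, mul_comm], by rw [← hβ, mul_comm]⟩
  · have ha : Associated t (σ e) := pt.irreducible.associated_of_dvd pσe.irreducible h
    rw [mul_comm (σ t)] at hσ
    have hb : Associated e (σ t) := hσ.symm.of_mul_left ha pt.ne_zero
    obtain ⟨α, hα⟩ := hb; obtain ⟨β, hβ⟩ := ha
    exact Or.inr ⟨α, β, by rw [← hα, mul_comm], by rw [← hβ, mul_comm]⟩

theorem not_fix_le_pow (hπ : Irreducible π) (j : ℕ) (hj : 1 ≤ j) (γ : B) (hγ : IsUnit γ) (σ : N ≃+* N)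
    (hσ : σ (algebraMap B N π) = algebraMap B N (π + γ * π ^ j)) :
    ¬ ArLef.fixIdeal σ ≤ Ideal.span ({algebraMap B N (π ^ j)} : Set N) := by
  haveI := isLocalRing hπ
  haveI := isDomain hπ
  intro h
  obtain ⟨a, ha⟩ := Ideal.mem_span_singleton'.1 (h (fix_mem σ t))
  obtain ⟨b, hb⟩ := Ideal.mem_span_singleton'.1 (h (fix_mem σ e))
  rw [← t_mul_e, map_mul, map_add, map_mul, map_pow, ← t_mul_e] at hσ
  rw [map_pow, ← t_mul_e] at ha hb
  have hP : ((t * e) ^ j : N) ≠ 0 := pow_ne_zero _ (mul_ne_zero (prime_t hπ).ne_zero (prime_e hπ).ne_zero)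
  have key : algebraMap B N γ = t * b + e * a + (t * e) ^ j * (a * b) := by
    refine mul_right_cancel₀ hP ?_
    linear_combination (-hσ) - σ e * ha - (t + a * (t * e) ^ j) * hb
  refine (IsLocalRing.mem_maximalIdeal _).1 ?_ (hγ.map (algebraMap B N))
  rw [maximalIdeal_eq hπ, key]
  obtain ⟨i, rfl⟩ := Nat.exists_eq_add_of_le hj
  exact Ideal.mem_span_pair.2 ⟨b + e * (t * e) ^ i * (a * b), a, by ring⟩

end Groth.Agent.ArNode
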