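import Groth.Prelude.Def_W4c2arithlefschetzNode
import Mathlib.RingTheory.Length
import Mathlib.RingTheory.Ideal.Colon
import Mathlib.RingTheory.Filtration
import Mathlib.RingTheory.LocalRing.MaximalIdeal.Basic
import Mathlib.Tactic.LinearCombination
import Mathlib.Tactic.Ring

/-! Lengths of quotients by two elements, colon ideals and fixed-point ideals. -/

universe u

noncomputable section

namespace Groth.Agent.ArNode

variable {A : Type u} [CommRing A]

/-- length of `A/(x, y)` -/
def L (x y : A) : ℕ∞ := Module.length A (A ⧸ Ideal.span ({x, y} : Set A))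

/-- `a` is a non-zero-divisor modulo `b` -/
def Reg (b a : A) : Prop := ∀ r, b ∣ a * r → b ∣ r

theorem reg_one (b : A) : Reg b 1 := fun r h => by rwa [one_mul] at h

theorem Reg.mul {b a a' : A} (h : Reg b a) (h' : Reg b a') : Reg b (a * a') :=
  fun r hr => h' r (h _ (by rwa [← mul_assoc]))

theorem Reg.pow {b a : A} (h : Reg b a) : ∀ n, Reg b (a ^ n)
  | 0 => by rw [pow_zero]; exact reg_one b
  | n + 1 => by rw [pow_succ]; exact (Reg.pow h n).mul h

theorem reg_of_prime [IsDomain A] {p b : A} (hp : Prime p) (h : ¬ p ∣ b) : Reg b p := by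
  rintro r ⟨s, hs⟩
  obtain ⟨s', rfl⟩ := (hp.dvd_mul.1 ⟨r, hs.symm⟩).resolve_left h
  exact ⟨s', mul_left_cancel₀ hp.ne_zero (by linear_combination hs)⟩

theorem length_congr {I J : Ideal A} (h : I = J) : Module.length A (A ⧸ I) = Module.length A (A ⧸ J) := by
  subst h; rfl

theorem L_comm (x y : A) : L x y = L y x := length_congr (by rw [Set.pair_comm])

theorem len_colon (I : Ideal A) (e : A) :
    Module.length A (A ⧸ I) = Module.length A (A ⧸ I.colon {e}) + Module.length A (A ⧸ (I ⊔ Ideal.span {e})) := by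
  let φ : (A ⧸ I.colon {e}) →ₗ[A] A ⧸ I := Submodule.mapQ _ _ (LinearMap.mulRight A e) (fun x hx => by
    simpa [Submodule.mem_colon_singleton] using hx)
  refine Module.length_eq_add_of_exact φ (Submodule.mapQ I (I ⊔ Ideal.span {e}) LinearMap.id le_sup_left) ?_ ?_ ?_
  · rw [injective_iff_map_eq_zero]
    intro z hz
    obtain ⟨x, rfl⟩ := Submodule.Quotient.mk_surjective _ z
    rw [Submodule.mapQ_apply, Submodule.Quotient.mk_eq_zero] at hz
    rw [Submodule.Quotient.mk_eq_zero, Submodule.mem_colon_singleton]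
    simpa using hz
  · intro z
    obtain ⟨x, rfl⟩ := Submodule.Quotient.mk_surjective _ z
    exact ⟨Submodule.Quotient.mk x, rfl⟩
  · intro z
    obtain ⟨x, rfl⟩ := Submodule.Quotient.mk_surjective _ z
    rw [Submodule.mapQ_apply, LinearMap.id_apply, Submodule.Quotient.mk_eq_zero]
    constructor
    · intro hx
      obtain ⟨i, hi, y, hy, rfl⟩ := Submodule.mem_sup.1 hx
      obtain ⟨c, rfl⟩ := Ideal.mem_span_singleton'.1 hy
      refine ⟨Submodule.Quotient.mk c, ?_⟩
      rw [Submodule.mapQ_apply, Submodule.Quotient.eq]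
      simpa using I.neg_mem hi
    · rintro ⟨w, hw⟩
      obtain ⟨a, rfl⟩ := Submodule.Quotient.mk_surjective _ w
      rw [Submodule.mapQ_apply, Submodule.Quotient.eq] at hw
      have : x = a * e - (a * e - x) := by ring
      rw [this]
      exact Ideal.sub_mem _ (Submodule.mem_sup_right (Ideal.mem_span_singleton'.2 ⟨a, rfl⟩))
        (Submodule.mem_sup_left hw)

theorem len_ideal_mul (a b : A) (I : Ideal A) (ha : Reg b a) :
    Module.length A (A ⧸ (Ideal.span {a} * I ⊔ Ideal.span {b})) =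
      L a b + Module.length A (A ⧸ (I ⊔ Ideal.span {b})) := by
  rw [len_colon _ a, add_comm, L]
  congr 1
  · refine length_congr ?_
    rw [Ideal.span_insert a {b}]
    exact le_antisymm (sup_le (sup_le (le_sup_of_le_left Ideal.mul_le_left) le_sup_right) le_sup_left)
      (sup_le le_sup_right (le_sup_of_le_left le_sup_right))
  · refine length_congr (le_antisymm (fun r hr => ?_) (sup_le (fun r hr => ?_) (fun r hr => ?_)))
    · rw [Submodule.mem_colon_singleton, smul_eq_mul] at hr
      obtain ⟨x, hx, y, hy, h⟩ := Submodule.mem_sup.1 hr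
      obtain ⟨i, hi, rfl⟩ := Ideal.mem_span_singleton_mul.1 hx
      obtain ⟨c, rfl⟩ := Ideal.mem_span_singleton'.1 hy
      obtain ⟨d, hd⟩ := ha (r - i) ⟨c, by linear_combination -h⟩
      rw [show r = i + d * b by linear_combination hd]
      exact Ideal.add_mem _ (Submodule.mem_sup_left hi) (Submodule.mem_sup_right (Ideal.mem_span_singleton'.2 ⟨d, rfl⟩))
    · rw [Submodule.mem_colon_singleton, smul_eq_mul, mul_comm r a]
      exact Submodule.mem_sup_left (Ideal.mul_mem_mul (Ideal.mem_span_singleton_self a) hr)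
    · rw [Submodule.mem_colon_singleton, smul_eq_mul]
      exact Submodule.mem_sup_right (Ideal.mul_mem_right _ _ hr)

theorem L_mul (a a' b : A) (ha : Reg b a) : L (a * a') b = L a b + L a' b := by
  have h := len_ideal_mul a b (Ideal.span {a'}) ha
  rw [Ideal.span_singleton_mul_span_singleton, ← Ideal.span_insert, ← Ideal.span_insert] at h
  exact h

theorem L_one (b : A) : L 1 b = 0 :=
  Module.length_eq_zero_iff.2 (Ideal.Quotient.subsingleton_iff.2
    ((Ideal.eq_top_iff_one _).2 (Ideal.subset_span (Or.inl rfl))))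

theorem L_pow (a b : A) (ha : Reg b a) : ∀ n : ℕ, L (a ^ n) b = n * L a b
  | 0 => by simp [L_one]
  | n + 1 => by rw [pow_succ, L_mul _ _ _ (ha.pow n), L_pow a b ha n, Nat.cast_succ, add_mul, one_mul]

theorem L_add_mul (x y c : A) {u : A} (hu : IsUnit u) : L x (u * y + c * x) = L x y := by
  refine length_congr (le_antisymm (Ideal.span_le.2 ?_) (Ideal.span_le.2 ?_)) <;>
    rintro z (rfl | rfl) <;> rw [SetLike.mem_coe]
  · exact Ideal.subset_span (Or.inl rfl)
  · exact Ideal.mem_span_pair.2 ⟨c, u, by ring⟩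
  · exact Ideal.subset_span (Or.inl rfl)
  · obtain ⟨u, rfl⟩ := hu
    refine Ideal.mem_span_pair.2 ⟨-(↑u⁻¹ * c), ↑u⁻¹, ?_⟩
    linear_combination z * u.inv_mul

theorem colon_span_singleton_mul [IsDomain A] {m : A} (hm : m ≠ 0) (J : Ideal A) :
    (Ideal.span {m} * J).colon {m} = J := by
  ext r
  rw [Submodule.mem_colon_singleton, smul_eq_mul, Ideal.mem_span_singleton_mul]
  exact ⟨fun ⟨z, hz, h⟩ => mul_left_cancel₀ hm (h.trans (mul_comm r m)) ▸ hz, fun h => ⟨r, h, mul_comm m r⟩⟩

theorem fix_mem (σ : A → A) (r : A) : σ r - r ∈ ArLef.fixIdeal σ := Ideal.subset_span ⟨r, rfl⟩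

theorem mem_iff_forall_pow [IsNoetherianRing A] [IsLocalRing A] {J : Ideal A} {x : A}
    (h : ∀ n, x ∈ J ⊔ IsLocalRing.maximalIdeal A ^ n) : x ∈ J := by
  rcases eq_or_ne J ⊤ with rfl | hJ
  · exact Submodule.mem_top
  haveI : Nontrivial (A ⧸ J) := Ideal.Quotient.nontrivial_iff.2 hJ
  haveI : IsNoetherianRing (A ⧸ J) := isNoetherianRing_of_surjective A _ (Ideal.Quotient.mk J) Ideal.Quotient.mk_surjective
  haveI : IsLocalRing (A ⧸ J) := .of_surjective' _ Ideal.Quotient.mk_surjective
  rw [← Ideal.Quotient.eq_zero_iff_mem, ← Submodule.mem_bot (R := A ⧸ J),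
    ← Ideal.iInf_pow_eq_bot_of_isLocalRing (IsLocalRing.maximalIdeal (A ⧸ J)) Ideal.IsPrime.ne_top',
    Submodule.mem_iInf]
  intro n
  obtain ⟨j, hj, m, hm, rfl⟩ := Submodule.mem_sup.1 (h n)
  rw [map_add, Ideal.Quotient.eq_zero_iff_mem.2 hj, zero_add]
  refine (Ideal.pow_right_mono (le_of_eq ?_) n) (Ideal.map_pow (Ideal.Quotient.mk J) _ n ▸ Ideal.mem_map_of_mem _ hm)
  refine (IsLocalRing.eq_maximalIdeal ?_)
  exact Ideal.IsMaximal.map_of_surjective_of_ker_le Ideal.Quotient.mk_surjective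
    (by rw [Ideal.mk_ker]; exact IsLocalRing.le_maximalIdeal hJ)

theorem fix_le [IsNoetherianRing A] [IsLocalRing A] {B : Type*} [CommRing B] (C : B →+* A)
    {t e : A} (ht : t ∈ IsLocalRing.maximalIdeal A) (he : e ∈ IsLocalRing.maximalIdeal A)
    (hexp : ∀ r : A, ∃ c g h, r = C c + t * g + e * h) (σ : A →+* A) (J : Ideal A)
    (hC : ∀ c, σ (C c) - C c ∈ J) (htJ : σ t - t ∈ J) (heJ : σ e - e ∈ J) :
    ArLef.fixIdeal (σ : A → A) ≤ J := by
  refine Ideal.span_le.2 ?_
  rintro _ ⟨r, rfl⟩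
  refine mem_iff_forall_pow fun n => ?_
  induction n generalizing r with
  | zero => simp
  | succ n ih =>
    obtain ⟨c, g, h, rfl⟩ := hexp r
    have key : ∀ x ∈ IsLocalRing.maximalIdeal A, σ x - x ∈ J → ∀ y : A,
        σ (x * y) - x * y ∈ J ⊔ IsLocalRing.maximalIdeal A ^ (n + 1) := by
      intro x hx hxJ y
      obtain ⟨j, hj, m, hm, hy⟩ := Submodule.mem_sup.1 (ih y)
      rw [map_mul, show σ x * σ y - x * y = ((σ x - x) * σ y + x * j) + x * m by linear_combination x * hy.symm]
      exact Ideal.add_mem _ (Submodule.mem_sup_left (Ideal.add_mem _ (Ideal.mul_mem_right _ _ hxJ) (Ideal.mul_mem_left _ _ hj)))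
        (Submodule.mem_sup_right (by rw [pow_succ']; exact Ideal.mul_mem_mul hx hm))
    dsimp only
    rw [map_add, map_add, show σ (C c) + σ (t * g) + σ (e * h) - (C c + t * g + e * h) =
      (σ (C c) - C c) + (σ (t * g) - t * g) + (σ (e * h) - e * h) by ring]
    exact Ideal.add_mem _ (Ideal.add_mem _ (Submodule.mem_sup_left (hC c)) (key t ht htJ g)) (key e he heJ h)

end Groth.Agent.ArNode
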