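import Groth.Agent.ArNode.Fix

/-! Residual fixed-point lengths at a node. -/

universe u

noncomputable section

namespace Groth.Agent.ArNode

variable {B : Type u} [CommRing B] [IsDomain B] [IsDiscreteValuationRing B] {π : B}

local notation "N" => ArLef.NodeAlg B π
local notation "t" => (ArLef.NodeAlg.t π : ArLef.NodeAlg B π)
local notation "e" => (ArLef.NodeAlg.e π : ArLef.NodeAlg B π)

theorem reg_e_t (hπ : Irreducible π) : Reg e t :=
  haveI := isDomain hπ
  reg_of_prime (prime_t hπ) (not_t_dvd_e hπ)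

theorem L_e_pow_t (hπ : Irreducible π) (n : ℕ) : L e (t ^ n) = n := by
  rw [L_comm, L_pow _ _ (reg_e_t hπ), L_t_e hπ, mul_one]

/-- the ideal `(t^(P+1) e^(Q+1), a t, b e)` -/
theorem len_main (hπ : Irreducible π) (P Q : ℕ) (γ a b u v : N) (hu : IsUnit u) (hv : IsUnit v)
    (hua : u * a = γ * (t ^ P * e ^ Q) - b) (hvb : v * b = γ * (t ^ P * e ^ Q) - a)
    (hea : ¬ e ∣ a) (htb : ¬ t ∣ b) :
    Module.length N (N ⧸ Ideal.span ({t ^ (P + 1) * e ^ (Q + 1), a * t, b * e} : Set N)) =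
      1 + ((P + 1 : ℕ) : ℕ∞) * L t b + ((Q + 1 : ℕ) : ℕ∞) * L e a := by
  haveI := isDomain hπ
  have pe := prime_e hπ
  rw [len_colon _ e]
  have h1 : (Ideal.span ({t ^ (P + 1) * e ^ (Q + 1), a * t, b * e} : Set N)).colon {e} =
      Ideal.span {t ^ (P + 1) * e ^ Q, b} := by
    refine le_antisymm (fun r hr => ?_) (Ideal.span_le.2 ?_)
    · rw [Submodule.mem_colon_singleton, smul_eq_mul, Ideal.mem_span_insert] at hr
      obtain ⟨x, z, hz, hr⟩ := hr
      obtain ⟨y, w, rfl⟩ := Ideal.mem_span_pair.1 hz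
      have : e ∣ y * (a * t) := ⟨r - x * (t ^ (P + 1) * e ^ Q) - w * b, by linear_combination -hr⟩
      obtain ⟨y', rfl⟩ := (pe.dvd_mul.1 this).resolve_right fun h => (pe.dvd_mul.1 h).elim hea (not_e_dvd_t hπ)
      have hr' : r = x * (t ^ (P + 1) * e ^ Q) + y' * (a * t) + w * b :=
        mul_right_cancel₀ pe.ne_zero (by linear_combination hr)
      obtain ⟨u, rfl⟩ := hu
      refine Ideal.mem_span_pair.2 ⟨x + y' * ↑u⁻¹ * γ, w - y' * ↑u⁻¹ * t, ?_⟩
      linear_combination -hr' + (-y' * (↑u⁻¹ : N) * t) * hua + (y' * (a * t)) * u.inv_mul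
    · rintro z (rfl | rfl) <;> rw [SetLike.mem_coe, Submodule.mem_colon_singleton, smul_eq_mul]
      · exact Ideal.subset_span (Or.inl (by ring))
      · exact Ideal.subset_span (Or.inr (Or.inr rfl))
  have h2 : Ideal.span ({t ^ (P + 1) * e ^ (Q + 1), a * t, b * e} : Set N) ⊔ Ideal.span {e} =
      Ideal.span {a * t, e} := by
    refine le_antisymm (sup_le (Ideal.span_le.2 ?_) ((Ideal.span_singleton_le_iff_mem _).2
      (Ideal.subset_span (Or.inr rfl)))) (Ideal.span_le.2 ?_)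
    · rintro z (rfl | rfl | rfl) <;> rw [SetLike.mem_coe, Ideal.mem_span_pair]
      · exact ⟨0, t ^ (P + 1) * e ^ Q, by ring⟩
      · exact ⟨1, 0, by ring⟩
      · exact ⟨0, b, by ring⟩
    · rintro z (rfl | rfl) <;> rw [SetLike.mem_coe]
      · exact Submodule.mem_sup_left (Ideal.subset_span (Or.inr (Or.inl rfl)))
      · exact Submodule.mem_sup_right (Ideal.mem_span_singleton_self _)
  rw [h1, h2]
  change L _ _ + L _ _ = _
  have ht : Reg b t := reg_of_prime (prime_t hπ) htb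
  rw [L_mul _ _ _ (ht.pow _), L_pow _ _ ht, mul_comm a t, L_mul _ _ _ (reg_e_t hπ), L_t_e hπ, L_comm a e]
  obtain rfl | ⟨Q', rfl⟩ : Q = 0 ∨ ∃ Q', Q = Q' + 1 := by
    cases Q with
    | zero => exact Or.inl rfl
    | succ Q => exact Or.inr ⟨Q, rfl⟩
  · rw [pow_zero, L_one]
    simp only [Nat.zero_add, Nat.cast_one, one_mul, add_zero]
    ring
  · have heb : ¬ e ∣ b := fun h => hea (by
      have e1 : a = γ * (t ^ P * e ^ (Q' + 1)) - v * b := by linear_combination hvb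
      rw [e1]
      exact dvd_sub (Dvd.intro (γ * t ^ P * e ^ Q') (by ring)) (h.mul_left v))
    have hL : L e b = L e a := by
      obtain ⟨v, rfl⟩ := hv
      have : L e (-(↑v⁻¹ : N) * a + (↑v⁻¹ * γ * t ^ P * e ^ Q') * e) = L e a :=
        L_add_mul e a _ (v⁻¹).isUnit.neg
      rw [← this]
      congr 1
      linear_combination (↑v⁻¹ : N) * hvb - b * v.inv_mul
    rw [L_pow _ _ (reg_of_prime pe heb), hL]
    push_cast
    ring

/-- the ideal `(t^(P+1), a t, b)` -/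
theorem len_max (hπ : Irreducible π) (P : ℕ) (γ a b u v : N) (hu : IsUnit u) (hv : IsUnit v) (hγ : IsUnit γ)
    (hua : u * (e * a) = γ * t ^ P - b) (hvb : v * b = γ * t ^ P - e * a) (htb : ¬ t ∣ b) :
    Module.length N (N ⧸ Ideal.span ({t ^ (P + 1), a * t, b} : Set N)) + (P : ℕ∞) =
      ((P + 1 : ℕ) : ℕ∞) * L t b := by
  haveI := isDomain hπ
  obtain ⟨g, rfl⟩ := hγ
  have h1 : Ideal.span ({t ^ (P + 1), a * t, b} : Set N) = Ideal.span {t * a, b} := by
    refine le_antisymm (Ideal.span_le.2 ?_) (Ideal.span_le.2 ?_)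
    · rintro z (rfl | rfl | rfl) <;> rw [SetLike.mem_coe, Ideal.mem_span_pair]
      · exact ⟨↑g⁻¹ * u * e, ↑g⁻¹ * t, by linear_combination (↑g⁻¹ * t) * hua + t ^ (P + 1) * g.inv_mul⟩
      · exact ⟨1, 0, by ring⟩
      · exact ⟨0, 1, by ring⟩
    · rintro z (rfl | rfl) <;> rw [SetLike.mem_coe]
      · exact Ideal.subset_span (Or.inr (Or.inl (mul_comm t a)))
      · exact Ideal.subset_span (Or.inr (Or.inr rfl))
  have ht : Reg b t := reg_of_prime (prime_t hπ) htb
  obtain ⟨u, rfl⟩ := hu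
  obtain ⟨v, rfl⟩ := hv
  have heb : ¬ e ∣ b := fun h => by
    have : e ∣ (g : N) * t ^ P := by
      rw [show (g : N) * t ^ P = ↑v * b + e * a by linear_combination -hvb]
      exact dvd_add (h.mul_left _) (dvd_mul_right _ _)
    rw [(Units.isUnit g).dvd_mul_left] at this
    exact not_e_dvd_t hπ ((prime_e hπ).dvd_of_dvd_pow this)
  have hea : L e b + L a b = (P : ℕ∞) * L t b := by
    rw [← L_mul _ _ _ (reg_of_prime (prime_e hπ) heb), ← L_pow _ _ ht, L_comm, L_comm (t ^ P)]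
    have : L b (↑(u⁻¹ * g) * t ^ P + (-↑u⁻¹) * b) = L b (t ^ P) := L_add_mul _ _ _ (u⁻¹ * g).isUnit
    rw [← this]
    congr 1
    rw [Units.val_mul]
    linear_combination (↑u⁻¹ : N) * hua - (e * a) * u.inv_mul
  have heP : L e b = (P : ℕ∞) := by
    rw [← L_e_pow_t hπ P]
    have : L e (↑(v⁻¹ * g) * t ^ P + (-(↑v⁻¹ * a)) * e) = L e (t ^ P) := L_add_mul _ _ _ (v⁻¹ * g).isUnit
    rw [← this]
    congr 1
    rw [Units.val_mul]
    linear_combination (↑v⁻¹ : N) * hvb - b * v.inv_mul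
  rw [h1]
  change L _ _ + _ = _
  rw [L_mul _ _ _ ht]
  rw [heP] at hea
  rw [add_assoc, add_comm (L a b), hea, Nat.cast_succ, add_mul, one_mul, add_comm]

end Groth.Agent.ArNode
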