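import Groth.Agent.ArNode.Len

/-! Fixed-point schemes at a node. -/

universe u

noncomputable section

namespace Groth.Agent.ArNode

variable {B : Type u} [CommRing B] [IsDomain B] [IsDiscreteValuationRing B] {π : B}

local notation "N" => ArLef.NodeAlg B π
local notation "t" => (ArLef.NodeAlg.t π : ArLef.NodeAlg B π)
local notation "e" => (ArLef.NodeAlg.e π : ArLef.NodeAlg B π)

theorem linear_stab (hπ : Irreducible π) (σ : N ≃ₐ[B] N) (hσ : σ ≠ AlgEquiv.refl)
    (ht : Associated (σ t) t) (he : Associated (σ e) e) :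
    ∃ g : N, g ≠ 0 ∧ ArLef.fixIdeal σ = Ideal.span {g} * Ideal.span ({t, e} : Set N) := by
  haveI := isDomain hπ
  obtain ⟨α, hα⟩ := ht.symm
  obtain ⟨β, hβ⟩ := he.symm
  have hc : ∀ c, σ (algebraMap B N c) = algebraMap B N c := σ.commutes
  have hab : (α : N) * β = 1 := by
    refine mul_right_cancel₀ (pi_ne_zero hπ) ?_
    have := hc π
    rw [← t_mul_e, map_mul, ← hα, ← hβ] at this
    rw [← t_mul_e]
    linear_combination this
  have hle : ∀ J : Ideal N, ((α : N) - 1) * t ∈ J → ((β : N) - 1) * e ∈ J → ArLef.fixIdeal σ ≤ J := by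
    intro J h1 h2
    refine node_fix_le hπ (σ : N →+* N) J (fun c => ?_) ?_ ?_
    · show σ _ - _ ∈ J
      rw [hc, sub_self]; exact zero_mem _
    · show σ t - t ∈ J
      rw [← hα, show t * (α : N) - t = ((α : N) - 1) * t by ring]; exact h1
    · show σ e - e ∈ J
      rw [← hβ, show e * (β : N) - e = ((β : N) - 1) * e by ring]; exact h2
  refine ⟨(α : N) - 1, fun h0 => hσ (AlgEquiv.ext fun r => ?_), le_antisymm (hle _ ?_ ?_) ?_⟩
  · have hb : (β : N) - 1 = 0 := by linear_combination hab - (β : N) * h0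
    have := hle ⊥ (by simp [h0]) (by simp [hb]) (fix_mem σ r)
    rwa [Ideal.mem_bot, sub_eq_zero] at this
  · exact Ideal.mul_mem_mul (Ideal.mem_span_singleton_self _) (Ideal.subset_span (Or.inl rfl))
  · rw [show ((β : N) - 1) * e = ((α : N) - 1) * (-(β : N) * e) by linear_combination e * hab]
    exact Ideal.mul_mem_mul (Ideal.mem_span_singleton_self _) (Ideal.mul_mem_left _ _ (Ideal.subset_span (Or.inr rfl)))
  · refine Ideal.span_singleton_mul_le_iff.2 fun z hz => ?_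
    obtain ⟨x, y, rfl⟩ := Ideal.mem_span_pair.1 hz
    have h1 : t * (α : N) - t ∈ ArLef.fixIdeal σ := by rw [hα]; exact fix_mem σ t
    have h2 : e * (β : N) - e ∈ ArLef.fixIdeal σ := by rw [hβ]; exact fix_mem σ e
    rw [show ((α : N) - 1) * (x * t + y * e) = x * (t * (α : N) - t) + -(y * α) * (e * (β : N) - e) by
      linear_combination (y * e) * hab]
    exact Ideal.add_mem _ (Ideal.mul_mem_left _ _ h1) (Ideal.mul_mem_left _ _ h2)

theorem switch_h (hπ : Irreducible π) (α : Nˣ) :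
    ¬ e ∣ t - (α : N) * e ∧ t - (α : N) * e ∉ Ideal.span ({t, e} : Set N) ^ 2 ∧
      Reg (t - (α : N) * e) e ∧ Reg (t - (α : N) * e) t := by
  haveI := isDomain hπ
  have h1 : ¬ e ∣ t - (α : N) * e := fun h => not_e_dvd_t hπ (by simpa using dvd_add h (dvd_mul_left e (α : N)))
  have h2 : ¬ t ∣ t - (α : N) * e := fun h => not_t_dvd_e hπ (by
    rw [← (Units.isUnit α).dvd_mul_left]
    simpa using dvd_sub (dvd_refl t) h)
  refine ⟨h1, fun h => ?_, reg_of_prime (prime_e hπ) h1, reg_of_prime (prime_t hπ) h2⟩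
  have hm := Ideal.mem_map_of_mem (br hπ 0) h
  rw [Ideal.map_pow, Ideal.map_span, Set.image_pair, (br_t hπ).1, (br_e hπ).1, map_sub, map_mul, (br_t hπ).1,
    (br_e hπ).1, mul_zero, sub_zero, Set.pair_comm, Ideal.span_insert_zero, Ideal.span_singleton_pow,
    Ideal.mem_span_singleton, PowerSeries.X_pow_dvd_iff] at hm
  simpa using hm 1 one_lt_two

theorem linear_switch (hπ : Irreducible π) (σ : N ≃ₐ[B] N) (ht : Associated (σ t) e) (he : Associated (σ e) t) :
    ∃ h : N, ArLef.fixIdeal σ = Ideal.span {h} ∧ h ∉ (Ideal.span ({t, e} : Set N)) ^ 2 ∧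
      IsSMulRegular (N ⧸ Ideal.span ({h} : Set N)) π := by
  haveI := isDomain hπ
  obtain ⟨α, hα⟩ := ht.symm
  obtain ⟨β, hβ⟩ := he.symm
  have hc : ∀ c, σ (algebraMap B N c) = algebraMap B N c := σ.commutes
  have hab : (α : N) * β = 1 := by
    refine mul_right_cancel₀ (pi_ne_zero hπ) ?_
    have := hc π
    rw [← t_mul_e, map_mul, ← hα, ← hβ] at this
    rw [← t_mul_e]
    linear_combination this
  obtain ⟨-, h2, re, rt⟩ := switch_h hπ α
  refine ⟨t - (α : N) * e, le_antisymm ?_ ((Ideal.span_singleton_le_iff_mem _).2 ?_), h2, ?_⟩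
  · refine node_fix_le hπ (σ : N →+* N) _ (fun c => ?_) ?_ ?_
    · show σ _ - _ ∈ _
      rw [hc, sub_self]; exact zero_mem _
    · show σ t - t ∈ _
      rw [← hα]; exact Ideal.mem_span_singleton'.2 ⟨-1, by ring⟩
    · show σ e - e ∈ _
      rw [← hβ]; exact Ideal.mem_span_singleton'.2 ⟨β, by linear_combination -e * hab⟩
  · have : e * (α : N) - t ∈ ArLef.fixIdeal σ := by rw [hα]; exact fix_mem σ t
    rw [show t - (α : N) * e = -(e * (α : N) - t) by ring]
    exact neg_mem this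
  · intro x y hxy
    obtain ⟨x, rfl⟩ := Ideal.Quotient.mk_surjective x
    obtain ⟨y, rfl⟩ := Ideal.Quotient.mk_surjective y
    simp only [← Ideal.Quotient.mkₐ_eq_mk (R₁ := B), ← map_smul] at hxy
    simp only [Ideal.Quotient.mkₐ_eq_mk, Algebra.smul_def] at hxy
    rw [Ideal.Quotient.eq, Ideal.mem_span_singleton] at hxy ⊢
    refine (rt.mul re) _ ?_
    rw [t_mul_e, mul_sub, ← Algebra.smul_def, ← Algebra.smul_def]
    exact hxy

theorem fix_eq (hπ : Irreducible π) (j : ℕ) (γ : B) (hγ : IsUnit γ) (σ : N ≃+* N)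
    (hσB : ∀ b : B, σ (algebraMap B N b) - algebraMap B N b ∈ Ideal.span ({algebraMap B N (π ^ j)} : Set N))
    (hσπ : σ (algebraMap B N π) = algebraMap B N (π + γ * π ^ j)) :
    ArLef.fixIdeal σ = Ideal.span ({(t * e) ^ j, σ t - t, σ e - e} : Set N) := by
  refine le_antisymm ?_ (Ideal.span_le.2 ?_)
  · refine node_fix_le hπ (σ : N →+* N) _ (fun c => ?_) (Ideal.subset_span (by simp)) (Ideal.subset_span (by simp))
    refine Ideal.span_mono (by simp [t_mul_e]) (hσB c)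
  · rintro z (rfl | rfl | rfl) <;> rw [SetLike.mem_coe]
    · obtain ⟨g, rfl⟩ := hγ
      rw [show (t * e) ^ j = algebraMap B N ↑g⁻¹ * (σ (algebraMap B N π) - algebraMap B N π) by
        rw [hσπ, t_mul_e, map_add, add_sub_cancel_left, map_mul, ← mul_assoc, ← map_mul, g.inv_mul, map_one, one_mul,
          map_pow]]
      exact Ideal.mul_mem_left _ _ (fix_mem σ _)
    · exact fix_mem σ t
    · exact fix_mem σ e

theorem unit_rel (hπ : Irreducible π) (i : ℕ) (γ : B) (σ : N ≃+* N)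
    (hσπ : σ (algebraMap B N π) = algebraMap B N (π + γ * π ^ (i + 1))) (x y : N) (h : σ t * σ e = x * y * (t * e)) :
    x * y = 1 + algebraMap B N γ * (t * e) ^ i := by
  haveI := isDomain hπ
  refine mul_right_cancel₀ (pi_ne_zero hπ) ?_
  rw [map_add, map_mul, map_pow, ← t_mul_e, map_mul] at hσπ
  rw [← t_mul_e]
  linear_combination hσπ - h

theorem switch_length (hπ : Irreducible π) (j : ℕ) (hj : 1 ≤ j) (γ : B) (hγ : IsUnit γ) (σ : N ≃+* N)
    (hσB : ∀ b : B, σ (algebraMap B N b) - algebraMap B N b ∈ Ideal.span ({algebraMap B N (π ^ j)} : Set N))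
    (hσπ : σ (algebraMap B N π) = algebraMap B N (π + γ * π ^ j))
    (ht : Associated (σ t) e) (he : Associated (σ e) t) :
    (∀ g : N, ArLef.fixIdeal σ ≤ Ideal.span ({g} : Set N) → IsUnit g) ∧
      Module.length N (N ⧸ ArLef.fixIdeal σ) = ((2 * j - 1 : ℕ) : ℕ∞) := by
  haveI := isDomain hπ
  obtain ⟨i, rfl⟩ : ∃ i, j = i + 1 := ⟨j - 1, by omega⟩
  obtain ⟨α, hα⟩ := ht.symm
  obtain ⟨β, hβ⟩ := he.symm
  have hab := unit_rel hπ i γ σ hσπ α β (by rw [← hα, ← hβ]; ring)
  have hu : IsUnit (algebraMap B N γ * (α : N) ^ i) := (hγ.map _).mul (α.isUnit.pow i)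
  set h := t - (α : N) * e with hh
  obtain ⟨c, hc⟩ : h ∣ (t * e) ^ i * e - (α : N) ^ i * e ^ (2 * i + 1) := by
    obtain ⟨c, hc⟩ := sub_dvd_pow_sub_pow (t * e) ((α : N) * e * e) i
    exact ⟨e * (e * c), by rw [hh]; linear_combination e * hc⟩
  have hI : ArLef.fixIdeal σ = Ideal.span ({e ^ (2 * i + 1), h} : Set N) := by
    rw [fix_eq hπ _ γ hγ σ hσB hσπ, ← hα, ← hβ]
    refine le_antisymm (Ideal.span_le.2 ?_) (Ideal.span_le.2 ?_)
    · rintro z (rfl | rfl | rfl) <;> rw [SetLike.mem_coe, Ideal.mem_span_pair]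
      · exact ⟨(α : N) ^ i * t, c * t, by linear_combination -t * hc⟩
      · exact ⟨0, -1, by rw [hh]; ring⟩
      · refine ⟨algebraMap B N γ * (α : N) ^ i, (β : N) + algebraMap B N γ * c, ?_⟩
        rw [hh] at hc ⊢
        linear_combination -(algebraMap B N γ) * hc - e * hab
    · have m1 : h ∈ Ideal.span ({(t * e) ^ (i + 1), e * (α : N) - t, t * (β : N) - e} : Set N) := by
        rw [show h = -(e * (α : N) - t) by rw [hh]; ring]
        exact neg_mem (Ideal.subset_span (by simp))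
      rintro z (rfl | rfl) <;> rw [SetLike.mem_coe]
      · obtain ⟨w, hw⟩ := hu
        rw [show e ^ (2 * i + 1) = ↑w⁻¹ * ((t * (β : N) - e) - ((β : N) + algebraMap B N γ * c) * h) by
          have h1 : (w : N) * e ^ (2 * i + 1) = (t * (β : N) - e) - ((β : N) + algebraMap B N γ * c) * h := by
            rw [hh] at hc ⊢
            linear_combination e ^ (2 * i + 1) * hw - algebraMap B N γ * hc - e * hab
          rw [← h1, ← mul_assoc, w.inv_mul, one_mul]]
        exact Ideal.mul_mem_left _ _ (Ideal.sub_mem _ (Ideal.subset_span (by simp)) (Ideal.mul_mem_left _ _ m1))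
      · exact m1
  obtain ⟨h1, -, re, -⟩ := switch_h hπ α
  refine ⟨fun g hg => ?_, ?_⟩
  · rw [hI] at hg
    have d1 : g ∣ e ^ (2 * i + 1) := Ideal.mem_span_singleton.1 (hg (Ideal.subset_span (Or.inl rfl)))
    have d2 : g ∣ h := Ideal.mem_span_singleton.1 (hg (Ideal.subset_span (Or.inr rfl)))
    obtain ⟨k, -, hk⟩ := (dvd_prime_pow (prime_e hπ) _).1 d1
    cases k with
    | zero => exact hk.symm.isUnit (by rw [pow_zero]; exact isUnit_one)
    | succ k => exact absurd (((dvd_pow_self e k.succ_ne_zero).trans hk.symm.dvd).trans d2) h1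
  · rw [hI]
    change L _ _ = _
    rw [L_pow _ _ re, show L e h = L e (1 * t + (-(α : N)) * e) by congr 1; rw [hh]; ring,
      L_add_mul _ _ _ isUnit_one, L_comm, L_t_e hπ, mul_one]
    congr 1

theorem fix_colon (hπ : Irreducible π) {j : ℕ} (M x y z : N) (hM : M ≠ 0)
    (hx : (t * e) ^ j = M * x) {a b : N} (ha : a = M * y) (hb : b = M * z) :
    (Ideal.span ({(t * e) ^ j, a, b} : Set N)).colon {M} = Ideal.span ({x, y, z} : Set N) := by
  haveI := isDomain hπ
  rw [show Ideal.span ({(t * e) ^ j, a, b} : Set N) = Ideal.span {M} * Ideal.span ({x, y, z} : Set N) by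
    rw [Ideal.span_mul_span', Set.singleton_mul, Set.image_insert_eq, Set.image_pair, hx, ha, hb],
    colon_span_singleton_mul hM]

theorem stab_residual (hπ : Irreducible π) (i₁ i₂ P Q : ℕ) (hj : i₁ + P = i₂ + Q) (γ : B) (hγ : IsUnit γ) (σ : N ≃+* N)
    (hσB : ∀ b : B, σ (algebraMap B N b) - algebraMap B N b ∈
      Ideal.span ({algebraMap B N (π ^ (i₁ + P + 1))} : Set N))
    (hσπ : σ (algebraMap B N π) = algebraMap B N (π + γ * π ^ (i₁ + P + 1)))
    (α β : Nˣ) (ht : σ t = (α : N) * t) (he : σ e = (β : N) * e) (a b : N)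
    (ha : (α : N) - 1 = t ^ i₁ * e ^ i₂ * a) (hb : (β : N) - 1 = t ^ i₁ * e ^ i₂ * b)
    (hea : ¬ e ∣ a) (htb : ¬ t ∣ b) :
    Module.length N (N ⧸ (ArLef.fixIdeal σ).colon ({t ^ i₁ * e ^ i₂} : Set N)) =
      1 + ((P + 1 : ℕ) : ℕ∞) * L t b + ((Q + 1 : ℕ) : ℕ∞) * L e a := by
  haveI := isDomain hπ
  have hM : t ^ i₁ * e ^ i₂ ≠ 0 :=
    mul_ne_zero (pow_ne_zero _ (prime_t hπ).ne_zero) (pow_ne_zero _ (prime_e hπ).ne_zero)
  have hte : ∀ n : ℕ, n = 0 ∨ n = 1 → (t * e) ^ (i₁ + P + n) = t ^ i₁ * e ^ i₂ * (t ^ (P + n) * e ^ (Q + n)) := by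
    intro n _
    rw [mul_pow]
    conv_lhs => arg 2; rw [hj]
    ring
  have hx : (t * e) ^ (i₁ + P) = t ^ i₁ * e ^ i₂ * (t ^ P * e ^ Q) := hte 0 (Or.inl rfl)
  have rel : a + b + t ^ i₁ * e ^ i₂ * (a * b) = algebraMap B N γ * (t ^ P * e ^ Q) := by
    refine mul_left_cancel₀ hM ?_
    have hab := unit_rel hπ (i₁ + P) γ σ hσπ α β (by rw [ht, he]; ring)
    linear_combination hab + algebraMap B N γ * hx - (β : N) * ha - (1 + t ^ i₁ * e ^ i₂ * a) * hb
  rw [fix_eq hπ _ γ hγ σ hσB hσπ, fix_colon hπ _ (t ^ (P + 1) * e ^ (Q + 1)) (a * t) (b * e) hM (hte 1 (Or.inr rfl))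
    (by rw [ht]; linear_combination t * ha) (by rw [he]; linear_combination e * hb)]
  exact len_main hπ P Q (algebraMap B N γ) a b β α β.isUnit α.isUnit
    (by linear_combination rel + a * hb) (by linear_combination rel + b * ha) hea htb

theorem stab_max (hπ : Irreducible π) (i₁ P : ℕ) (γ : B) (hγ : IsUnit γ) (σ : N ≃+* N)
    (hσB : ∀ b : B, σ (algebraMap B N b) - algebraMap B N b ∈
      Ideal.span ({algebraMap B N (π ^ (i₁ + P + 1))} : Set N))
    (hσπ : σ (algebraMap B N π) = algebraMap B N (π + γ * π ^ (i₁ + P + 1)))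
    (α β : Nˣ) (ht : σ t = (α : N) * t) (he : σ e = (β : N) * e) (a b : N)
    (ha : (α : N) - 1 = t ^ i₁ * e ^ (i₁ + P + 1) * a) (hb : (β : N) - 1 = t ^ i₁ * e ^ (i₁ + P) * b)
    (htb : ¬ t ∣ b) :
    Module.length N (N ⧸ (ArLef.fixIdeal σ).colon ({t ^ i₁ * e ^ (i₁ + P + 1)} : Set N)) + (P : ℕ∞) =
      ((P + 1 : ℕ) : ℕ∞) * L t b := by
  haveI := isDomain hπ
  have hM : ∀ n : ℕ, t ^ i₁ * e ^ n ≠ 0 := fun n =>
    mul_ne_zero (pow_ne_zero _ (prime_t hπ).ne_zero) (pow_ne_zero _ (prime_e hπ).ne_zero)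
  have rel : e * a + b + t ^ i₁ * e ^ (i₁ + P) * (e * a * b) = algebraMap B N γ * t ^ P := by
    refine mul_left_cancel₀ (hM (i₁ + P)) ?_
    have hab := unit_rel hπ (i₁ + P) γ σ hσπ α β (by rw [ht, he]; ring)
    linear_combination hab - (β : N) * ha - (1 + t ^ i₁ * e ^ (i₁ + P) * (e * a)) * hb
  rw [fix_eq hπ _ γ hγ σ hσB hσπ, fix_colon hπ _ (t ^ (P + 1)) (a * t) b (hM _) (by ring)
    (by rw [ht]; linear_combination t * ha) (by rw [he]; linear_combination e * hb)]
  exact len_max hπ P (algebraMap B N γ) a b β α β.isUnit α.isUnit (hγ.map _)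
    (by linear_combination rel + (e * a) * hb) (by linear_combination rel + b * ha) htb

end Groth.Agent.ArNode
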