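import Groth.Agent.ArNode.General
import Mathlib.RingTheory.MvPowerSeries.Rename
import Mathlib.RingTheory.MvPowerSeries.Inverse
import Mathlib.RingTheory.MvPowerSeries.Equiv
import Mathlib.RingTheory.MvPowerSeries.NoZeroDivisors
import Mathlib.RingTheory.PowerSeries.NoZeroDivisors
import Mathlib.RingTheory.PowerSeries.Inverse
import Mathlib.RingTheory.DiscreteValuationRing.Basic
import Mathlib.RingTheory.SimpleModule.Basic
import Mathlib.RingTheory.LocalRing.ResidueField.Basic
import Mathlib.LinearAlgebra.FreeModule.Basic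

/-! Structure of `B[[t, e]]/(te - π)`. -/

universe u

noncomputable section

namespace Groth.Agent.ArNode

open MvPowerSeries

variable {B : Type u} [CommRing B] [IsDomain B] [IsDiscreteValuationRing B] {π : B}

local notation "N" => ArLef.NodeAlg B π
local notation "t" => (ArLef.NodeAlg.t π : ArLef.NodeAlg B π)
local notation "e" => (ArLef.NodeAlg.e π : ArLef.NodeAlg B π)
local notation "k" => IsLocalRing.ResidueField B

instance : IsNoetherianRing N := isNoetherianRing_of_surjective (MvPowerSeries (Fin 2) B) _ (Ideal.Quotient.mk _) Ideal.Quotient.mk_surjective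

theorem t_mul_e : t * e = algebraMap B N π := by
  rw [← map_mul]
  exact Ideal.Quotient.eq.2 (Ideal.mem_span_singleton_self _)

theorem mk_C' (b : B) : (Ideal.Quotient.mk _ (C b) : N) = algebraMap B N b := rfl

theorem residue_eq_zero_iff (hπ : Irreducible π) (b : B) : IsLocalRing.residue B b = 0 ↔ π ∣ b := by
  rw [IsLocalRing.residue_eq_zero_iff, hπ.maximalIdeal_eq, Ideal.mem_span_singleton]

theorem residue_pi (hπ : Irreducible π) : IsLocalRing.residue B π = 0 := (residue_eq_zero_iff hπ π).2 dvd_rfl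

/-- restriction to the `i`-th axis of the closed fibre -/
def brHom (i : Fin 2) : MvPowerSeries (Fin 2) B →+* PowerSeries k :=
  (MvPowerSeries.map (IsLocalRing.residue B)).comp (killCompl (Function.Embedding.punit i)).toRingHom

theorem coeff_brHom (i : Fin 2) (F : MvPowerSeries (Fin 2) B) (x : Unit →₀ ℕ) :
    MvPowerSeries.coeff x (brHom i F) =
      IsLocalRing.residue B (MvPowerSeries.coeff (Finsupp.embDomain (Function.Embedding.punit i) x) F) := by
  rfl

theorem brHom_X_self (i : Fin 2) : brHom (B := B) i (X i) = PowerSeries.X := by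
  show MvPowerSeries.map (IsLocalRing.residue B) (killCompl _ (X i)) = _
  rw [show X i = (X ((Function.Embedding.punit i) PUnit.unit) : MvPowerSeries (Fin 2) B) from rfl, killCompl_X]
  exact MvPowerSeries.map_X _ _

theorem brHom_X_ne {i j : Fin 2} (h : i ≠ j) : brHom (B := B) i (X j) = 0 := by
  show MvPowerSeries.map (IsLocalRing.residue B) (killCompl _ (X j)) = _
  rw [killCompl_X_eq_zero (by rintro ⟨_, rfl⟩; exact h rfl), map_zero]

theorem brHom_C (i : Fin 2) (b : B) : brHom i (C b) = C (IsLocalRing.residue B b) := by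
  show MvPowerSeries.map (IsLocalRing.residue B) (killCompl _ (C b)) = _
  rw [killCompl_C, map_C]

theorem brHom_ker (hπ : Irreducible π) {i j : Fin 2} (h : i ≠ j) {F : MvPowerSeries (Fin 2) B}
    (hF : brHom i F = 0) : ∃ G H, F = X j * G + C π * H := by
  classical
  have hd : ∀ d : Fin 2 →₀ ℕ, d j = 0 → π ∣ coeff d F := by
    intro d hd
    have := congrArg (MvPowerSeries.coeff (Finsupp.single PUnit.unit (d i))) hF
    rw [coeff_brHom, map_zero, residue_eq_zero_iff hπ, Finsupp.embDomain_single] at this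
    have e' : Finsupp.single (Function.Embedding.punit i PUnit.unit) (d i) = d := by
      ext l
      rcases eq_or_ne l i with rfl | hl
      · simp [Function.Embedding.punit]
      · have : l = j := by omega
        subst this
        simp [Function.Embedding.punit, h, hd]
    rwa [e'] at this
  let H : MvPowerSeries (Fin 2) B := fun d => if hdj : d j = 0 then (hd d hdj).choose else 0
  obtain ⟨G, hG⟩ : X j ∣ F - C π * H := X_dvd_iff.2 fun d hdj => by
    rw [map_sub, coeff_C_mul, show coeff d H = H d from rfl]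
    simp only [H, dif_pos hdj]
    exact sub_eq_zero.2 (hd d hdj).choose_spec
  exact ⟨G, H, by linear_combination hG⟩

/-- the branch maps of the node -/
def br (hπ : Irreducible π) (i : Fin 2) : N →+* PowerSeries k :=
  Ideal.Quotient.lift _ (brHom i) (fun x hx => by
    obtain ⟨c, rfl⟩ := Ideal.mem_span_singleton'.1 hx
    rw [map_mul, map_sub, map_mul, brHom_C, residue_pi hπ, map_zero, sub_zero]
    obtain rfl | rfl : i = 0 ∨ i = 1 := by omega
    · rw [brHom_X_ne (i := (0 : Fin 2)) (j := 1) (by decide)]; simp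
    · rw [brHom_X_ne (i := (1 : Fin 2)) (j := 0) (by decide)]; simp)

theorem br_t (hπ : Irreducible π) : br hπ 0 t = PowerSeries.X ∧ br hπ 1 t = 0 :=
  ⟨brHom_X_self 0, brHom_X_ne (by decide)⟩

theorem br_e (hπ : Irreducible π) : br hπ 0 e = 0 ∧ br hπ 1 e = PowerSeries.X :=
  ⟨brHom_X_ne (by decide), brHom_X_self 1⟩

theorem br_ker (hπ : Irreducible π) :
    RingHom.ker (br hπ 0) = Ideal.span {e} ∧ RingHom.ker (br hπ 1) = Ideal.span {t} := by
  refine ⟨le_antisymm (fun x hx => ?_) ((Ideal.span_singleton_le_iff_mem _).2 (br_e hπ).1),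
    le_antisymm (fun x hx => ?_) ((Ideal.span_singleton_le_iff_mem _).2 (br_t hπ).2)⟩
  · obtain ⟨F, rfl⟩ := Ideal.Quotient.mk_surjective x
    obtain ⟨G, H, rfl⟩ := brHom_ker hπ (i := 0) (j := 1) (by decide) hx
    rw [map_add, map_mul, map_mul, mk_C', ← t_mul_e]
    exact Ideal.mem_span_singleton'.2 ⟨Ideal.Quotient.mk _ G + t * Ideal.Quotient.mk _ H, by ring⟩
  · obtain ⟨F, rfl⟩ := Ideal.Quotient.mk_surjective x
    obtain ⟨G, H, rfl⟩ := brHom_ker hπ (i := 1) (j := 0) (by decide) hx
    rw [map_add, map_mul, map_mul, mk_C', ← t_mul_e]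
    exact Ideal.mem_span_singleton'.2 ⟨Ideal.Quotient.mk _ G + e * Ideal.Quotient.mk _ H, by ring⟩

theorem t_dvd_iff (hπ : Irreducible π) (x : N) : t ∣ x ↔ br hπ 1 x = 0 := by
  rw [← Ideal.mem_span_singleton, ← (br_ker hπ).2, RingHom.mem_ker]

theorem e_dvd_iff (hπ : Irreducible π) (x : N) : e ∣ x ↔ br hπ 0 x = 0 := by
  rw [← Ideal.mem_span_singleton, ← (br_ker hπ).1, RingHom.mem_ker]

theorem not_e_dvd_t (hπ : Irreducible π) : ¬ e ∣ t := fun h => by
  rw [e_dvd_iff hπ, (br_t hπ).1] at h
  exact PowerSeries.X_ne_zero h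

theorem not_t_dvd_e (hπ : Irreducible π) : ¬ t ∣ e := fun h => by
  rw [t_dvd_iff hπ, (br_e hπ).2] at h
  exact PowerSeries.X_ne_zero h

theorem t_mul_cancel (hπ : Irreducible π) {x : N} (h : t * x = 0) : x = 0 := by
  obtain ⟨F, rfl⟩ := Ideal.Quotient.mk_surjective x
  rw [← map_mul, Ideal.Quotient.eq_zero_iff_mem] at h
  obtain ⟨G, hG⟩ := Ideal.mem_span_singleton'.1 h
  have h1 := congrArg (killCompl (Function.Embedding.punit (1 : Fin 2))) hG
  rw [map_mul, map_sub, map_mul, map_mul, killCompl_C, killCompl_X_eq_zero (by rintro ⟨_, h⟩; simp [Function.Embedding.punit] at h),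
    zero_mul, zero_sub, mul_neg, zero_mul, neg_eq_zero, mul_eq_zero] at h1
  have hG0 : killCompl (Function.Embedding.punit (1 : Fin 2)) G = 0 :=
    h1.resolve_right fun h => hπ.ne_zero (by simpa using congrArg MvPowerSeries.constantCoeff h)
  obtain ⟨G', rfl⟩ : X (0 : Fin 2) ∣ G := X_dvd_iff.2 fun d hd => by
    have := congrArg (MvPowerSeries.coeff (Finsupp.single PUnit.unit (d 1))) hG0
    rw [coeff_killCompl, map_zero, Finsupp.embDomain_single] at this
    have e' : Finsupp.single (Function.Embedding.punit (1 : Fin 2) PUnit.unit) (d 1) = d := by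
      ext l; fin_cases l <;> simp [Function.Embedding.punit, hd]
    rwa [e'] at this
  refine Ideal.Quotient.eq_zero_iff_mem.2 (Ideal.mem_span_singleton'.2 ⟨G', mul_left_cancel₀ ?_ (by linear_combination hG : X 0 * (G' * (X 0 * X 1 - C π)) = X 0 * F)⟩)
  intro h0
  simpa [MvPowerSeries.coeff_X] using congrArg (MvPowerSeries.coeff (Finsupp.single (0 : Fin 2) 1)) h0

theorem exists_expansion (r : N) : ∃ c g h, r = algebraMap B N c + t * g + e * h := by
  classical
  obtain ⟨F, rfl⟩ := Ideal.Quotient.mk_surjective r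
  let H : MvPowerSeries (Fin 2) B := fun d => if d 0 = 0 ∧ d 1 ≠ 0 then coeff d F else 0
  obtain ⟨h, hh⟩ : X (1 : Fin 2) ∣ H := X_dvd_iff.2 fun d hd => by
    show H d = 0
    simp [H, hd]
  obtain ⟨g, hg⟩ : X (0 : Fin 2) ∣ F - C (constantCoeff F) - H := X_dvd_iff.2 fun d hd => by
    rw [map_sub, map_sub, coeff_C, show coeff d H = H d from rfl]
    rcases eq_or_ne (d 1) 0 with h1 | h1
    · have : d = 0 := by ext l; fin_cases l <;> simp [hd, h1]
      subst this
      simp [H]
    · have : d ≠ 0 := fun h => h1 (by simp [h])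
      simp [H, hd, h1, this]
  refine ⟨constantCoeff F, Ideal.Quotient.mk _ g, Ideal.Quotient.mk _ h, ?_⟩
  rw [← mk_C', ← map_mul, ← map_mul, ← map_add, ← map_add]
  congr 1
  linear_combination hg + hh

theorem isLocalRing (hπ : Irreducible π) : IsLocalRing N := by
  haveI : Nontrivial N := (br hπ 0).domain_nontrivial
  exact .of_surjective' _ Ideal.Quotient.mk_surjective

theorem not_isUnit_t (hπ : Irreducible π) : ¬ IsUnit t := fun h => by
  have := h.map (br hπ 0)
  rw [(br_t hπ).1, PowerSeries.isUnit_iff_constantCoeff, PowerSeries.constantCoeff_X] at this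
  exact not_isUnit_zero this

theorem not_isUnit_e (hπ : Irreducible π) : ¬ IsUnit e := fun h => by
  have := h.map (br hπ 1)
  rw [(br_e hπ).2, PowerSeries.isUnit_iff_constantCoeff, PowerSeries.constantCoeff_X] at this
  exact not_isUnit_zero this

theorem maximalIdeal_eq (hπ : Irreducible π) :
    haveI := isLocalRing hπ
    IsLocalRing.maximalIdeal N = Ideal.span {t, e} := by
  haveI := isLocalRing hπ
  refine le_antisymm (fun r hr => ?_) (Ideal.span_le.2 ?_)
  · obtain ⟨c, g, h, rfl⟩ := exists_expansion r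
    have hte : t * g + e * h ∈ Ideal.span {t, e} :=
      Ideal.mem_span_pair.2 ⟨g, h, by ring⟩
    have htm : Ideal.span {t, e} ≤ IsLocalRing.maximalIdeal N := Ideal.span_le.2 (by
      rintro x (rfl | rfl)
      exacts [not_isUnit_t hπ, not_isUnit_e hπ])
    have hc : ¬ IsUnit c := fun hu => by
      have : algebraMap B N c ∈ IsLocalRing.maximalIdeal N := by
        have := Ideal.sub_mem _ hr (htm hte)
        rwa [add_assoc, add_sub_cancel_right] at this
      exact this (hu.map _)
    obtain ⟨c', rfl⟩ : π ∣ c := by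
      rw [← residue_eq_zero_iff hπ, IsLocalRing.residue_eq_zero_iff]
      exact hc
    rw [add_assoc, map_mul, ← t_mul_e]
    exact Ideal.add_mem _ (Ideal.mem_span_pair.2 ⟨e * algebraMap B N c', 0, by ring⟩) hte
  · rintro x (rfl | rfl)
    exacts [not_isUnit_t hπ, not_isUnit_e hπ]

theorem L_t_e (hπ : Irreducible π) : L t e = 1 := by
  haveI := isLocalRing hπ
  rw [L, ← maximalIdeal_eq hπ, Module.length_eq_one_iff, isSimpleModule_iff_isCoatom]
  exact (IsLocalRing.maximalIdeal.isMaximal N).out

theorem exists_t_pow (hπ : Irreducible π) {x : N} (hx : x ≠ 0) : ∃ (n : ℕ) (w : N), x = t ^ n * w ∧ ¬ t ∣ w := by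
  haveI := isLocalRing hπ
  classical
  have hex : ∃ n, ¬ t ^ n ∣ x := by
    by_contra! hall
    refine hx ?_
    rw [← Submodule.mem_bot (R := N), ← Ideal.iInf_pow_eq_bot_of_isLocalRing (Ideal.span {t})
      (fun h => not_isUnit_t hπ (Ideal.span_singleton_eq_top.1 h)), Submodule.mem_iInf]
    intro n
    rw [Ideal.span_singleton_pow, Ideal.mem_span_singleton]
    exact hall n
  obtain ⟨m, hm⟩ : ∃ m, Nat.find hex = m + 1 := ⟨_, (Nat.succ_pred_eq_of_pos (Nat.pos_of_ne_zero fun h => by
    have := Nat.find_spec hex; rw [h, pow_zero] at this; exact this (one_dvd x))).symm⟩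
  obtain ⟨w, rfl⟩ := not_not.1 (Nat.find_min hex (show m < Nat.find hex by omega))
  refine ⟨m, w, rfl, fun ⟨v, hv⟩ => Nat.find_spec hex ?_⟩
  rw [hm]
  exact ⟨v, by rw [hv]; ring⟩

theorem isDomain (hπ : Irreducible π) : IsDomain N := by
  haveI : Nontrivial N := (br hπ 0).domain_nontrivial
  haveI : NoZeroDivisors N := ⟨fun {x y} h => by
    by_contra! hc
    obtain ⟨a, v, rfl, hv⟩ := exists_t_pow hπ hc.1
    obtain ⟨b, w, rfl, hw⟩ := exists_t_pow hπ hc.2
    have key : ∀ (n : ℕ) (z : N), t ^ n * z = 0 → z = 0 := fun n => by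
      induction n with
      | zero => intro z hz; rwa [pow_zero, one_mul] at hz
      | succ n ih => intro z hz; exact ih z (t_mul_cancel hπ (by rw [← hz]; ring))
    have hvw : v * w = 0 := key (a + b) _ (by rw [← h]; ring)
    rw [t_dvd_iff hπ] at hv hw
    exact mul_ne_zero hv hw (by rw [← map_mul, hvw, map_zero])⟩
  exact NoZeroDivisors.to_isDomain _

theorem prime_t (hπ : Irreducible π) : Prime t := by
  haveI := isDomain hπ
  rw [← Ideal.span_singleton_prime, ← (br_ker hπ).2]
  · exact RingHom.ker_isPrime _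
  · intro h
    exact not_t_dvd_e hπ ((t_dvd_iff hπ _).2 (by
      have := congrArg (br hπ 0) h
      rw [(br_t hπ).1, map_zero] at this
      exact absurd this PowerSeries.X_ne_zero))

theorem prime_e (hπ : Irreducible π) : Prime e := by
  haveI := isDomain hπ
  rw [← Ideal.span_singleton_prime, ← (br_ker hπ).1]
  · exact RingHom.ker_isPrime _
  · intro h
    have := congrArg (br hπ 1) h
    rw [(br_e hπ).2, map_zero] at this
    exact PowerSeries.X_ne_zero this

theorem pi_ne_zero (hπ : Irreducible π) : algebraMap B N π ≠ 0 := by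
  haveI := isDomain hπ
  rw [← t_mul_e]
  exact mul_ne_zero (prime_t hπ).ne_zero (prime_e hπ).ne_zero

end Groth.Agent.ArNode
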