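import Groth.Agent.ArNode.General
import Mathlib.RingTheory.PowerSeries.Inverse
import Mathlib.RingTheory.PowerSeries.Ideal
import Mathlib.RingTheory.PowerSeries.NoZeroDivisors
import Mathlib.RingTheory.DiscreteValuationRing.Basic
import Mathlib.RingTheory.LocalRing.ResidueField.Basic

/-! Fixed-point schemes of automorphisms of `B[[t]]`. -/

universe u

noncomputable section

namespace Groth.Agent.ArNode

open PowerSeries

variable {B : Type u} [CommRing B] [IsDomain B] [IsDiscreteValuationRing B] {π : B}

local notation "k" => IsLocalRing.ResidueField B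
local notation "res" => PowerSeries.map (IsLocalRing.residue B)

theorem map_res_eq_zero_iff (hπ : Irreducible π) (f : PowerSeries B) :
    res f = 0 ↔ algebraMap B (PowerSeries B) π ∣ f := by
  constructor
  · intro h
    have hd : ∀ n, π ∣ coeff n f := fun n => by
      have := congrArg (coeff n) h
      rwa [coeff_map, map_zero, IsLocalRing.residue_eq_zero_iff, hπ.maximalIdeal_eq, Ideal.mem_span_singleton] at this
    choose g hg using hd
    exact ⟨mk g, ext fun n => by rw [show algebraMap B (PowerSeries B) π = C π from rfl, coeff_C_mul, coeff_mk, hg]⟩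
  · rintro ⟨g, rfl⟩
    rw [map_mul, show algebraMap B (PowerSeries B) π = C π from rfl, map_C,
      (IsLocalRing.residue_eq_zero_iff π).2 (by rw [hπ.maximalIdeal_eq]; exact Ideal.mem_span_singleton_self π),
      map_zero, zero_mul]

theorem prime_pi (hπ : Irreducible π) : Prime (algebraMap B (PowerSeries B) π) := by
  have hne : algebraMap B (PowerSeries B) π ≠ 0 := fun h => hπ.ne_zero (by
    have := congrArg constantCoeff h
    rwa [show algebraMap B (PowerSeries B) π = C π from rfl, constantCoeff_C, map_zero] at this)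
  rw [← Ideal.span_singleton_prime hne]
  have : Ideal.span {algebraMap B (PowerSeries B) π} = RingHom.ker (res) := by
    ext f
    rw [Ideal.mem_span_singleton, RingHom.mem_ker, map_res_eq_zero_iff hπ]
  rw [this]
  exact RingHom.ker_isPrime _

theorem L_pi (hπ : Irreducible π) (f : PowerSeries B) :
    L (algebraMap B (PowerSeries B) π) f =
      Module.length (PowerSeries k) (PowerSeries k ⧸ Ideal.span ({res f} : Set (PowerSeries k))) := by
  letI : Algebra (PowerSeries B) (PowerSeries k) := (res).toAlgebra
  have hs : Function.Surjective (res) := fun g => by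
    choose c hc using fun n => IsLocalRing.residue_surjective (coeff n g)
    exact ⟨mk c, ext fun n => by rw [coeff_map, coeff_mk, hc]⟩
  rw [← Module.length_eq_of_surjective (R := PowerSeries k) (S := PowerSeries B) hs]
  let φ : PowerSeries B →ₗ[PowerSeries B] (PowerSeries k ⧸ Ideal.span ({res f} : Set (PowerSeries k))) :=
    ((Submodule.mkQ (Ideal.span ({res f} : Set (PowerSeries k)))).restrictScalars (PowerSeries B)).comp
      (Algebra.linearMap (PowerSeries B) (PowerSeries k))
  have hφ : Function.Surjective φ := (Submodule.mkQ_surjective _).comp hs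
  refine ((Submodule.quotEquivOfEq _ _ ?_).trans (φ.quotKerEquivOfSurjective hφ)).length_eq
  ext g
  rw [LinearMap.mem_ker, Ideal.mem_span_pair]
  show _ ↔ (Submodule.Quotient.mk (res g) : PowerSeries k ⧸ Ideal.span {res f}) = 0
  rw [Submodule.Quotient.mk_eq_zero, Ideal.mem_span_singleton]
  constructor
  · rintro ⟨x, y, rfl⟩
    exact ⟨res y, by rw [map_add, map_mul, map_mul, (map_res_eq_zero_iff hπ _).2 dvd_rfl, mul_zero, zero_add, mul_comm]⟩
  · rintro ⟨c, hc⟩
    obtain ⟨y, rfl⟩ := hs c
    obtain ⟨x, hx⟩ := (map_res_eq_zero_iff hπ _).1 (show res (g - y * f) = 0 by rw [map_sub, map_mul, hc]; ring)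
    exact ⟨x, y, by linear_combination -hx⟩

theorem ps_fix_eq (hπ : Irreducible π) (j : ℕ) (γ : B) (hγ : IsUnit γ) (σ : PowerSeries B ≃+* PowerSeries B)
    (hσB : ∀ b : B, σ (algebraMap B (PowerSeries B) b) - algebraMap B (PowerSeries B) b ∈
      Ideal.span ({algebraMap B (PowerSeries B) (π ^ j)} : Set (PowerSeries B)))
    (hσπ : σ (algebraMap B (PowerSeries B) π) = algebraMap B (PowerSeries B) (π + γ * π ^ j)) :
    ArLef.fixIdeal σ = Ideal.span ({algebraMap B (PowerSeries B) π ^ j, σ X - X} : Set (PowerSeries B)) := by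
  refine le_antisymm ?_ (Ideal.span_le.2 ?_)
  · refine fix_le (t := (X : PowerSeries B)) (e := 0) (algebraMap B (PowerSeries B)) ?_ (zero_mem _) (fun r => ?_)
      (σ : PowerSeries B →+* PowerSeries B) _ (fun c => ?_) (Ideal.subset_span (by simp)) (by simp)
    · exact fun h => not_isUnit_zero (M₀ := B) (by simpa using isUnit_iff_constantCoeff.1 h)
    · exact ⟨constantCoeff r, mk fun n => coeff (n + 1) r, 0, by
        conv_lhs => rw [eq_X_mul_shift_add_const r]
        rw [mul_zero, add_zero, add_comm]; rfl⟩
    · exact Ideal.span_mono (by simp [map_pow]) (hσB c)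
  · rintro z (rfl | rfl) <;> rw [SetLike.mem_coe]
    · obtain ⟨g, rfl⟩ := hγ
      rw [show algebraMap B (PowerSeries B) π ^ j = algebraMap B (PowerSeries B) ↑g⁻¹ *
        (σ (algebraMap B (PowerSeries B) π) - algebraMap B (PowerSeries B) π) by
        rw [hσπ, map_add, add_sub_cancel_left, map_mul, ← mul_assoc, ← map_mul, g.inv_mul, map_one, one_mul, map_pow]]
      exact Ideal.mul_mem_left _ _ (fix_mem σ _)
    · exact fix_mem σ X

theorem smooth_length (hπ : Irreducible π) (n : ℕ) (f : PowerSeries B)
    (hf : ¬ algebraMap B (PowerSeries B) π ∣ f) :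
    Module.length (PowerSeries B) (PowerSeries B ⧸ Ideal.span ({algebraMap B (PowerSeries B) π ^ n, f} : Set (PowerSeries B))) =
      (n : ℕ∞) * Module.length (PowerSeries k) (PowerSeries k ⧸ Ideal.span ({res f} : Set (PowerSeries k))) := by
  change L _ _ = _
  rw [L_pow _ _ (reg_of_prime (prime_pi hπ) hf), L_pi hπ]

end Groth.Agent.ArNode
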